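import Groth.Agent.Lib.FibEq10.Algebra
import Groth.Agent.Lib.FibreDim6.AvoidScheme

/-! # Components of nearby fibres of an irreducible scheme have the dimension of the generic fibre -/

set_option autoImplicit false
set_option linter.all false
set_option backward.isDefEq.respectTransparency false
set_option maxHeartbeats 1000000

universe u

open CategoryTheory CategoryTheory.Limits AlgebraicGeometry TopologicalSpace
open GrothLib.FibreDim6 (IsMinimalOver)

noncomputable section

namespace GrothLib.FibEq10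

theorem exists_dim_fibClosure_domain (A B : Type u) [CommRing A] [IsDomain A] [CommRing B] [IsDomain B]
    [Algebra A B] [Algebra.FiniteType A B] (hinj : Function.Injective (algebraMap A B)) :
    ∃ (g : A) (n : ℕ), g ≠ 0 ∧ ∀ Q : PrimeSpectrum B, algebraMap A B g ∉ Q.asIdeal → IsMinimalOver A Q →
      topologicalKrullDim ↥(fibClosure A Q) = n := by
  obtain ⟨G, hG, h⟩ := FibreDim6.exists_finite_localization A B hinj
  let R := Localization.Away G
  let B₁ := Localization.Away (algebraMap A B G)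
  have hu : IsUnit (((algebraMap B B₁).comp (algebraMap A B)) G) :=
    IsLocalization.Away.algebraMap_isUnit (S := B₁) (algebraMap A B G)
  let θ : R →+* B₁ := IsLocalization.Away.lift G (g := (algebraMap B B₁).comp (algebraMap A B)) hu
  letI : Algebra R B₁ := θ.toAlgebra
  haveI : IsScalarTower A R B₁ := IsScalarTower.of_algebraMap_eq fun a => by
    show _ = θ (algebraMap A R a)
    rw [IsLocalization.Away.lift_eq]
    exact IsScalarTower.algebraMap_apply A B B₁ a
  obtain ⟨n, φ, hφ, hfin⟩ := h R B₁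
  have hGB : algebraMap A B G ≠ 0 := fun h => hG (hinj (h.trans (map_zero _).symm))
  haveI : IsDomain R := IsLocalization.isDomain_localization (powers_le_nonZeroDivisors_of_noZeroDivisors hG)
  haveI : IsDomain B₁ := IsLocalization.isDomain_localization (powers_le_nonZeroDivisors_of_noZeroDivisors hGB)
  obtain ⟨g', hg', h1⟩ := exists_dim_fibClosure n φ hφ hfin
  obtain ⟨⟨a, s⟩, hga⟩ := IsLocalization.surj (Submonoid.powers G) g'
  have ha0 : a ≠ 0 := by
    intro ha
    rw [ha, map_zero] at hga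
    exact hg' ((IsLocalization.map_units R s).mul_left_eq_zero.1 hga)
  refine ⟨G * a, n, mul_ne_zero hG ha0, fun Q hQ hmin => ?_⟩
  rw [map_mul] at hQ
  have hGQ : algebraMap A B G ∉ Q.asIdeal := fun h => hQ (Ideal.mul_mem_right _ _ h)
  have hemb := PrimeSpectrum.localization_away_isOpenEmbedding B₁ (algebraMap A B G)
  have hrange : ∀ w : PrimeSpectrum B, algebraMap A B G ∉ w.asIdeal → ∃ w', PrimeSpectrum.comap (algebraMap B B₁) w' = w := by
    intro w hw
    rw [← Set.mem_range, PrimeSpectrum.localization_away_comap_range B₁ (algebraMap A B G)]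
    exact hw
  obtain ⟨Q', hQ'⟩ := hrange Q hGQ
  let c := PrimeSpectrum.comap (algebraMap B B₁)
  have hle : ∀ v w : PrimeSpectrum B₁, v.asIdeal ≤ w.asIdeal ↔ (c v).asIdeal ≤ (c w).asIdeal := fun v w =>
    (PrimeSpectrum.le_iff_specializes v w).trans ((hemb.isInducing.specializes_iff).symm.trans
      (PrimeSpectrum.le_iff_specializes _ _).symm)
  have hRA : Function.Injective (PrimeSpectrum.comap (algebraMap A R)) :=
    (PrimeSpectrum.localization_away_isOpenEmbedding R G).injective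
  have hover : ∀ v : PrimeSpectrum B₁, PrimeSpectrum.comap (algebraMap A R) (PrimeSpectrum.comap (algebraMap R B₁) v) =
      PrimeSpectrum.comap (algebraMap A B) (c v) := fun v => by
    rw [← PrimeSpectrum.comap_comp_apply, ← IsScalarTower.algebraMap_eq, IsScalarTower.algebraMap_eq A B B₁,
      PrimeSpectrum.comap_comp_apply]
  have hmin' : IsMinimalOver R Q' := by
    intro w hw he
    refine (hle Q' w).2 ?_
    rw [show c Q' = Q from hQ']
    refine hmin (c w) (show (c w).asIdeal ≤ Q.asIdeal from hQ' ▸ (hle w Q').1 hw) ?_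
    have := congrArg PrimeSpectrum.asIdeal ((hover w).symm.trans
      ((congrArg (PrimeSpectrum.comap (algebraMap A R)) (PrimeSpectrum.ext he)).trans (hover Q')))
    rw [show c Q' = Q from hQ'] at this
    exact this
  have hgQ' : algebraMap R B₁ g' ∉ Q'.asIdeal := by
    intro hmem
    refine hQ (Ideal.mul_mem_left _ _ ?_)
    have h2 : algebraMap R B₁ (algebraMap A R a) ∈ Q'.asIdeal := by
      rw [← hga, map_mul]; exact Ideal.mul_mem_right _ _ hmem
    rw [← IsScalarTower.algebraMap_apply, IsScalarTower.algebraMap_apply A B B₁] at h2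
    rw [← hQ']
    exact h2
  rw [← h1 Q' hgQ' hmin']
  refine (GrothLib.Dim.IsEmbedding.topologicalKrullDim_eq (f := fun w : fibClosure R Q' => c w.1)
    (hemb.isEmbedding.comp Topology.IsEmbedding.subtypeVal) (Set.ext fun w => ⟨?_, ?_⟩)).symm
  · rintro ⟨⟨v, hv1, hv2⟩, rfl⟩
    refine ⟨(congrArg PrimeSpectrum.asIdeal hQ').symm.le.trans ((hle Q' v).1 hv1), ?_⟩
    rw [← hover, hv2, hover]
    exact congrArg _ hQ'
  · rintro ⟨hw1, hw2⟩
    obtain ⟨v, rfl⟩ := hrange w fun h => hGQ (show G ∈ (PrimeSpectrum.comap (algebraMap A B) Q).asIdeal by rw [← hw2]; exact h)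
    refine ⟨⟨v, (hle Q' v).2 ((congrArg PrimeSpectrum.asIdeal hQ').le.trans hw1), hRA ?_⟩, rfl⟩
    rw [hover, hover, hw2]
    exact congrArg _ hQ'.symm

/-- Affine case, topologically. -/
theorem exists_dim_affine {X S : Scheme.{u}} (f : X ⟶ S) [IsAffine X] [IsAffine S] [LocallyOfFiniteType f]
    [IrreducibleSpace S] [IrreducibleSpace X] (hgen : f (genericPoint X) = genericPoint S) :
    ∃ (U : Set S) (n : ℕ), IsOpen U ∧ U.Nonempty ∧ ∀ z : X, f z ∈ U → (∀ z' : X, z' ⤳ z → f z' = f z → z' = z) →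
      topologicalKrullDim ↥{w : X | z ⤳ w ∧ f w = f z} = n := by
  letI := f.appTop.hom.toAlgebra
  have : Algebra.FiniteType Γ(S, ⊤) Γ(X, ⊤) := HasRingHomProperty.appTop @LocallyOfFiniteType f inferInstance
  let A₀ := Γ(S, ⊤)
  let B₀ := Γ(X, ⊤)
  let N := nilradical A₀
  let M := nilradical B₀
  have hirr : ∀ (Y : Scheme.{u}) [IsAffine Y] [IrreducibleSpace Y], (nilradical Γ(Y, ⊤)).IsPrime := by
    intro Y _ _
    refine PrimeSpectrum.irreducibleSpace_iff_isPrime_nilradical.mp ?_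
    show IrreducibleSpace (Spec Γ(Y, ⊤))
    rw [irreducibleSpace_def, Set.top_eq_univ, ← Y.isoSpec.hom.surjective.range_eq, ← Set.image_univ]
    exact (IrreducibleSpace.isIrreducible_univ _).image _ Y.isoSpec.hom.continuous.continuousOn
  have hgenpt : ∀ (Y : Scheme.{u}) [IsAffine Y] [IrreducibleSpace Y],
      (show PrimeSpectrum Γ(Y, ⊤) from Y.isoSpec.hom (genericPoint Y)) = ⟨nilradical Γ(Y, ⊤), hirr Y⟩ := by
    intro Y _ _
    have h1 : IsGenericPoint (Y.isoSpec.hom (genericPoint Y)) (⊤ : Set (Spec Γ(Y, ⊤))) := by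
      simpa [Y.isoSpec.hom.surjective.range_eq] using (genericPoint_spec Y).image Y.isoSpec.hom.continuous
    have h2 : IsGenericPoint (⟨nilradical Γ(Y, ⊤), hirr Y⟩ : PrimeSpectrum Γ(Y, ⊤)) (⊤ : Set (PrimeSpectrum Γ(Y, ⊤))) := by
      rw [IsGenericPoint, ← PrimeSpectrum.zeroLocus_vanishingIdeal_eq_closure]
      simp
    exact h1.eq h2
  let a : X → PrimeSpectrum B₀ := fun y => X.isoSpec.hom y
  let c : S → PrimeSpectrum A₀ := fun s => S.isoSpec.hom s
  have hnat : ∀ y, c (f y) = PrimeSpectrum.comap (algebraMap A₀ B₀) (a y) := fun y => by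
    show S.isoSpec.hom (f y) = _
    rw [← Scheme.Hom.comp_apply, ← Scheme.isoSpec_hom_naturality, Scheme.Hom.comp_apply]
    rfl
  haveI : N.IsPrime := hirr S
  haveI : M.IsPrime := hirr X
  have hNM : N = M.comap (algebraMap A₀ B₀) := by
    have := congrArg PrimeSpectrum.asIdeal ((hnat (genericPoint X)).symm.trans
      ((congrArg c hgen).trans (hgenpt S)))
    rw [show a (genericPoint X) = _ from hgenpt X] at this
    exact this.symm
  let A := A₀ ⧸ N
  let B := B₀ ⧸ M
  let μ : A →+* B := Ideal.quotientMap M (algebraMap A₀ B₀) hNM.le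
  letI : Algebra A B := μ.toAlgebra
  haveI : IsScalarTower A₀ A B := IsScalarTower.of_algebraMap_eq fun x => rfl
  haveI : Algebra.FiniteType A B := .of_restrictScalars_finiteType A₀ A B
  obtain ⟨g, n, hg, h⟩ := exists_dim_fibClosure_domain A B (Ideal.quotientMap_injective' hNM.ge)
  obtain ⟨g, rfl⟩ := Ideal.Quotient.mk_surjective g
  let cB := PrimeSpectrum.comap (Ideal.Quotient.mk M)
  let cA := PrimeSpectrum.comap (Ideal.Quotient.mk N)
  have hBh : IsHomeomorph cB := by
    refine isHomeomorph_iff_isEmbedding_surjective.2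
      ⟨(PrimeSpectrum.isClosedEmbedding_comap_of_surjective _ _ Ideal.Quotient.mk_surjective).isEmbedding, fun w => ?_⟩
    rw [← Set.mem_range, range_comap_of_surjective _ _ Ideal.Quotient.mk_surjective, Ideal.mk_ker]
    exact nilradical_le_prime w.asIdeal
  have hcAi : Function.Injective cA := PrimeSpectrum.comap_injective_of_surjective _ Ideal.Quotient.mk_surjective
  have hcomm : ∀ v : PrimeSpectrum B, PrimeSpectrum.comap (algebraMap A₀ B₀) (cB v) = cA (PrimeSpectrum.comap μ v) :=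
    fun v => rfl
  let e : PrimeSpectrum B → X := fun v => X.isoSpec.inv (cB v)
  have he : IsHomeomorph e := (X.isoSpec.inv.homeomorph.isHomeomorph).comp hBh
  have hea : ∀ v, a (e v) = cB v := fun v => by
    show X.isoSpec.hom (X.isoSpec.inv (cB v)) = cB v
    rw [← Scheme.Hom.comp_apply, Iso.inv_hom_id]; rfl
  have hcinj : Function.Injective c := S.isoSpec.hom.isOpenEmbedding.injective
  have hfe : ∀ v w, f (e v) = f (e w) ↔ PrimeSpectrum.comap μ v = PrimeSpectrum.comap μ w := fun v w => by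
    rw [← hcinj.eq_iff, hnat, hnat, hea, hea, hcomm, hcomm, hcAi.eq_iff]
  have hspec : ∀ v w : PrimeSpectrum B, v.asIdeal ≤ w.asIdeal ↔ e v ⤳ e w := fun v w =>
    (PrimeSpectrum.le_iff_specializes v w).trans he.isEmbedding.isInducing.specializes_iff.symm
  refine ⟨c ⁻¹' PrimeSpectrum.basicOpen g, n, PrimeSpectrum.isOpen_basicOpen.preimage S.isoSpec.hom.continuous, ?_, ?_⟩
  · refine ⟨genericPoint S, ?_⟩
    show c (genericPoint S) ∈ PrimeSpectrum.basicOpen g
    rw [show c (genericPoint S) = _ from hgenpt S]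
    exact fun h => hg (Ideal.Quotient.eq_zero_iff_mem.2 h)
  intro z hz hmax
  obtain ⟨Q, rfl⟩ := he.surjective z
  have hgQ : algebraMap A B (Ideal.Quotient.mk N g) ∉ Q.asIdeal := by
    intro h'
    refine (show c (f (e Q)) ∈ PrimeSpectrum.basicOpen g from hz) ?_
    rw [hnat, hea, hcomm]
    exact h'
  have hmin : IsMinimalOver A Q := by
    intro Q' hle heq
    have := hmax (e Q') ((hspec _ _).1 hle) ((hfe _ _).2 (PrimeSpectrum.ext heq))
    rw [he.injective this]
  rw [← h Q hgQ hmin]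
  refine (GrothLib.Dim.IsEmbedding.topologicalKrullDim_eq (f := fun w : fibClosure A Q => e w.1)
    (he.isEmbedding.comp Topology.IsEmbedding.subtypeVal) (Set.ext fun w => ⟨?_, ?_⟩)).symm
  · rintro ⟨⟨v, hv1, hv2⟩, rfl⟩
    exact ⟨(hspec _ _).1 hv1, (hfe _ _).2 hv2⟩
  · rintro ⟨hw1, hw2⟩
    obtain ⟨v, rfl⟩ := he.surjective w
    exact ⟨⟨v, (hspec _ _).2 hw1, (hfe _ _).1 hw2⟩, rfl⟩

theorem map_genericPoint {X S : Scheme.{u}} (f : X ⟶ S) [IrreducibleSpace S] [IrreducibleSpace X] [IsDominant f] :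
    f (genericPoint X) = genericPoint S := by
  refine ((genericPoint_spec X).image f.continuous).eq ?_
  rw [Set.image_univ, f.denseRange.closure_eq]
  exact genericPoint_spec S

theorem exists_nhd_dim_components {X S : Scheme.{u}} (f : X ⟶ S)
    [IrreducibleSpace S] [IrreducibleSpace X] [IsDominant f] [LocallyOfFiniteType f] [QuasiCompact f] :
    ∃ U : S.Opens, genericPoint S ∈ U ∧ ∀ s ∈ U, ∀ T ∈ irreducibleComponents ↥(⇑f ⁻¹' {s}),
      topologicalKrullDim ↥T = topologicalKrullDim ↥(⇑f ⁻¹' {genericPoint S}) := by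
  let x := genericPoint X
  let η := genericPoint S
  have hxη : f x = η := map_genericPoint f
  obtain ⟨V, hV, hηV, -⟩ := exists_isAffineOpen_mem_and_subset (x := η) (U := (⊤ : S.Opens)) trivial
  obtain ⟨W, hW, hxW, hWV⟩ := exists_isAffineOpen_mem_and_subset (x := x) (U := f ⁻¹ᵁ V)
    (show f x ∈ V from hxη ▸ hηV)
  haveI : IsAffine V.toScheme := hV
  haveI : IsAffine W.toScheme := hW
  haveI : Nonempty V.toScheme := ⟨⟨η, hηV⟩⟩
  haveI : Nonempty W.toScheme := ⟨⟨x, hxW⟩⟩
  haveI : IrreducibleSpace V.toScheme := V.ι.isOpenEmbedding.irreducibleSpace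
  haveI : IrreducibleSpace W.toScheme := W.ι.isOpenEmbedding.irreducibleSpace
  have hgenW : ∀ {Y : Scheme.{u}} [IrreducibleSpace Y] (O : Y.Opens) [IrreducibleSpace O.toScheme],
      O.ι (genericPoint O.toScheme) = genericPoint Y := by
    intro Y _ O _
    refine ((genericPoint_spec O.toScheme).image O.ι.continuous).eq ?_
    rw [Set.image_univ, Scheme.Opens.range_ι]
    obtain ⟨p⟩ := (inferInstance : Nonempty O.toScheme)
    have hne : (O : Set Y).Nonempty := ⟨O.ι p, p.2⟩
    rw [show closure (O : Set Y) = Set.univ from (O.2.dense hne).closure_eq]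
    exact genericPoint_spec Y
  let f' := f.resLE V W hWV
  have hr : ∀ w, V.ι (f' w) = f (W.ι w) := fun w => by
    rw [← Scheme.Hom.comp_apply, f.resLE_comp_ι, Scheme.Hom.comp_apply]
  obtain ⟨U₁, n, hU₁, hne₁, hdim⟩ := exists_dim_affine f' (V.ι.isOpenEmbedding.injective (by
    rw [hr, hgenW W, hgenW V]; exact hxη))
  obtain ⟨V₂, hne₂, havoid, -⟩ := FibreDim6.exists_avoid f x hxη (W : Set X)ᶜ W.2.isClosed_compl (fun h => h hxW)
  let U : S.Opens := ⟨V.ι '' U₁, V.ι.isOpenEmbedding.isOpenMap _ hU₁⟩ ⊓ V₂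
  have hηU : η ∈ U := ⟨((genericPoint_spec S).mem_open_set_iff (V.ι.isOpenEmbedding.isOpenMap _ hU₁)).2
      (by simpa using hne₁.image V.ι), ((genericPoint_spec S).mem_open_set_iff V₂.2).2 (by simpa using hne₂)⟩
  have key : ∀ s ∈ U, ∀ T ∈ irreducibleComponents ↥(⇑f ⁻¹' {s}), topologicalKrullDim ↥T = n := by
    intro s hs T hT
    let k := S.residueField s
    haveI : LocallyOfFiniteType (f.fiberToSpecResidueField s) := MorphismProperty.pullback_snd f _ inferInstance
    haveI : QuasiSober ↥(⇑f ⁻¹' {s}) := (f.fiberHomeo s).symm.isClosedEmbedding.quasiSober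
    have hTc : IsClosed T := isClosed_of_mem_irreducibleComponents T hT
    obtain ⟨⟨z, hz⟩, hzT⟩ := QuasiSober.sober hT.1 hTc
    have hz' : f z = s := hz
    have hzmax : ∀ z' : X, z' ⤳ z → f z' = f z → z' = z := by
      intro z' hsp he
      let q : ↥(⇑f ⁻¹' {s}) := ⟨z', he.trans hz'⟩
      have hsp' : q ⤳ (⟨z, hz⟩ : ↥(⇑f ⁻¹' {s})) := (subtype_specializes_iff _ _).2 hsp
      have hTq : T ⊆ closure {q} := hzT.def ▸ closure_minimal
        (Set.singleton_subset_iff.2 (specializes_iff_mem_closure.1 hsp')) isClosed_closure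
      have hq : q ∈ T := hT.2 (isIrreducible_singleton.closure) hTq (subset_closure rfl)
      exact (congrArg Subtype.val ((hzT.specializes hq).antisymm hsp').eq).symm
    have hzW : z ∈ W := by
      obtain ⟨z', -, hsp, he, hW'⟩ := havoid z ((genericPoint_spec X).specializes trivial) (hz'.symm ▸ hs.2)
      exact hzmax z' hsp he ▸ not_not.1 hW'
    obtain ⟨v, hv, hvs⟩ := hs.1
    obtain ⟨m, hm, hmU⟩ := GrothLib.Dim.exists_nat_dim_irreducible (K := k) (f.fiberToSpecResidueField s)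
      (hTc.preimage (f.fiberHomeo s).continuous)
      (show IsIrreducible (⇑(f.fiberHomeo s) ⁻¹' T) by
        rw [← Homeomorph.image_symm]; exact hT.1.image _ (f.fiberHomeo s).symm.continuous.continuousOn)
    let R₀ : (f.fiber s).Opens := f.fiberι s ⁻¹ᵁ W
    have hfib : ∀ q, ((f.fiberHomeo s q : ↥(⇑f ⁻¹' {s})) : X) = f.fiberι s q := fun q => rfl
    obtain ⟨q₀, hq₀⟩ := (f.fiberHomeo s).surjective ⟨z, hz⟩
    have hne : ((⇑(f.fiberHomeo s) ⁻¹' T) ∩ (R₀ : Set (f.fiber s))).Nonempty :=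
      ⟨q₀, show f.fiberHomeo s q₀ ∈ T from hq₀ ▸ hzT.mem, by
        show f.fiberι s q₀ ∈ W
        rw [← hfib, hq₀]; exact hzW⟩
    have h1 : topologicalKrullDim ↥T = m := by
      rw [← hm]
      exact (GrothLib.Dim.IsEmbedding.topologicalKrullDim_eq
        (f := fun q : ↥(⇑(f.fiberHomeo s) ⁻¹' T) => f.fiberHomeo s q.1)
        ((f.fiberHomeo s).isEmbedding.comp Topology.IsEmbedding.subtypeVal) (Set.ext fun t =>
          ⟨fun ⟨q, hq⟩ => hq ▸ q.2, fun ht => ⟨⟨(f.fiberHomeo s).symm t, by simpa using ht⟩, by simp⟩⟩)).symm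
    have hzv : f' ⟨z, hzW⟩ = v := V.ι.isOpenEmbedding.injective ((hr _).trans (hz'.trans hvs.symm))
    have h2 := hdim ⟨z, hzW⟩ (hzv ▸ hv) (fun z' hsp he => W.ι.isOpenEmbedding.injective
      (hzmax _ (hsp.map W.ι.continuous) ((hr z').symm.trans ((congrArg V.ι he).trans (hr _)))))
    rw [h1, ← hmU R₀ hne, ← h2]
    let D : Set X := {w | z ⤳ w ∧ f w = s ∧ w ∈ W}
    have hA : topologicalKrullDim ↥(⇑(f.fiberHomeo s) ⁻¹' T ∩ (R₀ : Set (f.fiber s))) = topologicalKrullDim ↥D := by
      refine GrothLib.Dim.IsEmbedding.topologicalKrullDim_eq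
        (f := fun q : ↥(⇑(f.fiberHomeo s) ⁻¹' T ∩ (R₀ : Set (f.fiber s))) => f.fiberι s q.1)
        ((f.fiberι s).isEmbedding.comp Topology.IsEmbedding.subtypeVal) (Set.ext fun w => ⟨?_, ?_⟩)
      · rintro ⟨⟨q, hqT, hqW⟩, rfl⟩
        exact ⟨((hzT.specializes hqT).map continuous_subtype_val), (f.fiberHomeo s q).2, hqW⟩
      · rintro ⟨hw1, hw2, hw3⟩
        obtain ⟨q, hq⟩ := (f.fiberHomeo s).surjective ⟨w, hw2⟩
        have hqw : f.fiberι s q = w := by rw [← hfib, hq]
        refine ⟨⟨q, ?_, show f.fiberι s q ∈ W from hqw ▸ hw3⟩, hqw⟩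
        show f.fiberHomeo s q ∈ T
        rw [hq]
        exact ((subtype_specializes_iff (⟨z, hz⟩ : ↥(⇑f ⁻¹' {s})) ⟨w, hw2⟩).2 hw1).mem_closed hTc hzT.mem
    rw [hA]
    refine (GrothLib.Dim.IsEmbedding.topologicalKrullDim_eq
      (f := fun w : ↥{w : W.toScheme | (⟨z, hzW⟩ : W.toScheme) ⤳ w ∧ f' w = f' ⟨z, hzW⟩} => W.ι w.1)
      (W.ι.isEmbedding.comp Topology.IsEmbedding.subtypeVal) (Set.ext fun w => ⟨?_, ?_⟩)).symm
    · rintro ⟨⟨w, hw1, hw2⟩, rfl⟩
      exact ⟨hw1.map W.ι.continuous, ((hr w).symm.trans ((congrArg V.ι hw2).trans (hr _))).trans hz', w.2⟩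
    · rintro ⟨hw1, hw2, hw3⟩
      exact ⟨⟨⟨w, hw3⟩, W.ι.isOpenEmbedding.isInducing.specializes_iff.1 hw1,
        V.ι.isOpenEmbedding.injective ((hr _).trans (hw2.trans (hz'.symm.trans (hr ⟨z, hzW⟩).symm)))⟩, rfl⟩
  refine ⟨U, hηU, fun s hs T hT => (key s hs T hT).trans ?_⟩
  let p : ↥(⇑f ⁻¹' {η}) := ⟨x, hxη⟩
  have hgenF : IsGenericPoint p Set.univ := isGenericPoint_iff_specializes.2 fun y =>
    ⟨fun _ => trivial, fun _ => (subtype_specializes_iff _ _).2 ((genericPoint_spec X).specializes trivial)⟩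
  haveI : IrreducibleSpace ↥(⇑f ⁻¹' {η}) := irreducibleSpace_def _ |>.2 hgenF.isIrreducible
  have huniv : (Set.univ : Set ↥(⇑f ⁻¹' {η})) ∈ irreducibleComponents ↥(⇑f ⁻¹' {η}) := by
    rw [irreducibleComponents_eq_singleton]; rfl
  exact ((key η hηU _ huniv).symm.trans (IsHomeomorph.topologicalKrullDim_eq _ (Homeomorph.Set.univ _).isHomeomorph))

end GrothLib.FibEq10
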