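import Groth.Agent.Lib.FibreDim6.Equidim
import Groth.Agent.Lib.FibreDim6.Avoid
import Groth.Agent.Lib.Dim.Ring
import Groth.Agent.Lib.Dim.Scheme

/-! # Dimension of the components of nearby fibres -/

set_option autoImplicit false
set_option linter.all false
set_option backward.isDefEq.respectTransparency false

universe u

open TopologicalSpace MvPolynomial
open scoped TensorProduct

noncomputable section

namespace GrothLib.FibEq10

/-- The closure of a point in its fibre. -/
def fibClosure (R : Type u) [CommRing R] {S : Type u} [CommRing S] [Algebra R S] (Q : PrimeSpectrum S) :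
    Set (PrimeSpectrum S) :=
  {w | Q.asIdeal ≤ w.asIdeal ∧ PrimeSpectrum.comap (algebraMap R S) w = PrimeSpectrum.comap (algebraMap R S) Q}

theorem exists_dim_fibClosure {R S : Type u} [CommRing R] [CommRing S] [Algebra R S] [IsDomain R] [IsDomain S]
    (n : ℕ) (φ : MvPolynomial (Fin n) R →ₐ[R] S)
    (hφ : Function.Injective φ) (hfin : φ.toRingHom.Finite) :
    ∃ g : R, g ≠ 0 ∧ ∀ Q : PrimeSpectrum S, algebraMap R S g ∉ Q.asIdeal → FibreDim6.IsMinimalOver R Q →
      topologicalKrullDim ↥(fibClosure R Q) = n := by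
  obtain ⟨g, hg, h1, -⟩ := FibreDim6.exists_avoid_of_finite n φ hφ hfin
  refine ⟨g, hg, fun Q hgQ hQ => ?_⟩
  let P := PrimeSpectrum.comap (algebraMap R S) Q
  let p := P.asIdeal
  let D := S ⧸ Q.asIdeal
  let π : S →ₐ[R] D := Ideal.Quotient.mkₐ R Q.asIdeal
  -- the space is the fibre of the quotient
  have hspace : topologicalKrullDim ↥(fibClosure R Q) = ringKrullDim (p.Fiber D) := by
    rw [← PrimeSpectrum.topologicalKrullDim_eq_ringKrullDim,
      ← IsHomeomorph.topologicalKrullDim_eq _ (PrimeSpectrum.preimageHomeomorphFiber R D P).isHomeomorph]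
    let emb : (PrimeSpectrum.comap (algebraMap R D) ⁻¹' {P} : Set (PrimeSpectrum D)) → PrimeSpectrum S :=
      fun x => PrimeSpectrum.comap π.toRingHom x.1
    have hemb : Topology.IsEmbedding emb :=
      (PrimeSpectrum.isClosedEmbedding_comap_of_surjective _ _ Ideal.Quotient.mk_surjective).isEmbedding.comp
        Topology.IsEmbedding.subtypeVal
    have hcomm : ∀ x : PrimeSpectrum D, PrimeSpectrum.comap (algebraMap R S) (PrimeSpectrum.comap π.toRingHom x) =
        PrimeSpectrum.comap (algebraMap R D) x := fun x => rfl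
    refine (GrothLib.Dim.IsEmbedding.topologicalKrullDim_eq hemb (Set.ext fun y => ⟨?_, ?_⟩)).symm
    · rintro ⟨⟨x, hx⟩, rfl⟩
      refine ⟨fun a ha => ?_, (hcomm x).trans hx⟩
      show π a ∈ x.asIdeal
      rw [show π a = 0 from Ideal.Quotient.eq_zero_iff_mem.2 ha]
      exact x.asIdeal.zero_mem
    · rintro ⟨hQy, hy⟩
      obtain ⟨x, hx⟩ : y ∈ Set.range (PrimeSpectrum.comap π.toRingHom) := by
        rw [range_comap_of_surjective _ π.toRingHom Ideal.Quotient.mk_surjective]
        intro a ha
        exact hQy (Ideal.Quotient.eq_zero_iff_mem.1 ha)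
      exact ⟨⟨x, (hcomm x).symm.trans (hx ▸ hy)⟩, hx⟩
  rw [hspace]
  -- finite injective map from a polynomial ring over the residue field
  let K := p.ResidueField
  let χ : D →ₐ[R] p.Fiber D := Algebra.TensorProduct.includeRight
  let ψ : MvPolynomial (Fin n) K →ₐ[K] p.Fiber D := aeval fun i => χ (π (φ (X i)))
  let κ : MvPolynomial (Fin n) R →+* MvPolynomial (Fin n) K := MvPolynomial.map (algebraMap R K)
  have hψ : ∀ h, ψ (κ h) = χ (π (φ h)) := by
    intro h
    induction h using MvPolynomial.induction_on with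
    | C x =>
      rw [show φ (C x) = algebraMap R S x from φ.commutes x, AlgHom.commutes, AlgHom.commutes, map_C]
      rw [show ψ (C (algebraMap R K x)) = algebraMap K (p.Fiber D) _ from ψ.commutes _,
        ← IsScalarTower.algebraMap_apply]
    | add a b ha hb => simp only [map_add, ha, hb]
    | mul_X a i ha => simp only [map_mul, ha, κ, map_X]; simp [ψ]
  letI : Algebra K (p.Fiber D) := inferInstance
  have hfinψ : ψ.toRingHom.Finite := by
    letI := φ.toRingHom.toAlgebra
    haveI hS : Module.Finite (MvPolynomial (Fin n) R) S := hfin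
    obtain ⟨T, hT⟩ := hS.fg_top
    letI := ψ.toRingHom.toAlgebra
    classical
    refine ⟨⟨T.image fun t => χ (π t), eq_top_iff.2 fun x hx => ?_⟩⟩
    clear hx
    induction x using TensorProduct.induction_on with
    | zero => exact Submodule.zero_mem _
    | add a b ha hb => exact Submodule.add_mem _ ha hb
    | tmul c s =>
      obtain ⟨s, rfl⟩ := Ideal.Quotient.mk_surjective s
      have hsT : s ∈ Submodule.span (MvPolynomial (Fin n) R) (T : Set S) := hT ▸ Submodule.mem_top
      induction hsT using Submodule.span_induction with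
      | zero => rw [map_zero, TensorProduct.tmul_zero]; exact Submodule.zero_mem _
      | add a b _ _ ha hb => rw [map_add, TensorProduct.tmul_add]; exact Submodule.add_mem _ ha hb
      | mem t ht =>
        have : c ⊗ₜ[R] (Ideal.Quotient.mk Q.asIdeal t) = (C c : MvPolynomial (Fin n) K) • χ (π t) := by
          show _ = ψ (C c) * _
          rw [show ψ (C c) = algebraMap K (p.Fiber D) c from ψ.commutes c]
          show _ = (c ⊗ₜ[R] (1 : D)) * ((1 : K) ⊗ₜ[R] π t)
          rw [Algebra.TensorProduct.tmul_mul_tmul, mul_one, one_mul]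
          rfl
        rw [this]
        exact Submodule.smul_mem _ _ (Submodule.subset_span (Finset.mem_coe.2 (Finset.mem_image_of_mem _ ht)))
      | smul h t _ ht =>
        have : c ⊗ₜ[R] (Ideal.Quotient.mk Q.asIdeal (h • t)) = κ h • (c ⊗ₜ[R] (Ideal.Quotient.mk Q.asIdeal t)) := by
          show c ⊗ₜ[R] π (φ h * t) = ψ (κ h) * _
          rw [hψ, map_mul]
          simp [χ, π]
          rfl
        rw [this]
        exact Submodule.smul_mem _ _ ht
  have hinjψ : Function.Injective ψ := by
    refine (injective_iff_map_eq_zero ψ).2 fun H hH => ?_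
    haveI : p.IsPrime := P.2
    obtain ⟨r, h, hr, hrh⟩ : ∃ (r : R) (h : MvPolynomial (Fin n) R), algebraMap R K r ≠ 0 ∧ κ h = C (algebraMap R K r) * H := by
      clear hH
      induction H using MvPolynomial.induction_on' with
      | monomial d c =>
        obtain ⟨a, b, hb, rfl⟩ := IsFractionRing.div_surjective (A := R ⧸ p) c
        obtain ⟨a, rfl⟩ := Ideal.Quotient.mk_surjective a
        obtain ⟨b, rfl⟩ := Ideal.Quotient.mk_surjective b
        have hb0 : algebraMap R K b ≠ 0 := fun h0 => nonZeroDivisors.ne_zero hb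
          (Ideal.Quotient.eq_zero_iff_mem.2 (Ideal.algebraMap_residueField_eq_zero.1 h0))
        refine ⟨b, monomial d a, hb0, ?_⟩
        rw [map_monomial, C_mul_monomial]
        congr 1
        show algebraMap R K a = algebraMap R K b * (algebraMap R K a / algebraMap R K b)
        exact (mul_div_cancel₀ _ hb0).symm
      | add H₁ H₂ i₁ i₂ =>
        obtain ⟨r₁, h₁, hr₁, e₁⟩ := i₁
        obtain ⟨r₂, h₂, hr₂, e₂⟩ := i₂
        refine ⟨r₁ * r₂, C r₂ * h₁ + C r₁ * h₂, by rw [map_mul]; exact mul_ne_zero hr₁ hr₂, ?_⟩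
        simp only [κ, map_add, map_mul, map_C] at e₁ e₂ ⊢
        rw [e₁, e₂]
        ring
    have h0 : χ (π (φ h)) = 0 := by rw [← hψ, hrh, map_mul, hH, mul_zero]
    have hmem : φ h ∈ Q.asIdeal := by
      by_contra hne
      refine hne ?_
      have := FibreDim6.mem_of_one_tmul_eq_zero (R := R) (S := D) p (⊥ : Ideal D) ?_ (π (φ h)) h0
      · exact Ideal.Quotient.eq_zero_iff_mem.1 ((Ideal.mem_bot).1 this)
      · show Q.asIdeal.comap (algebraMap R S) = Ideal.comap (algebraMap R D) ⊥
        ext a
        simp only [Ideal.mem_comap, Ideal.mem_bot]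
        exact Ideal.Quotient.eq_zero_iff_mem.symm
    have hκ : κ h = 0 := MvPolynomial.ext _ _ fun i => by
      rw [coeff_map, coeff_zero]
      exact Ideal.algebraMap_residueField_eq_zero.2 (h1 Q hgQ hQ h hmem i)
    rw [hrh] at hκ
    exact (mul_eq_zero.1 hκ).resolve_left fun hc => hr (C_eq_zero.1 hc)
  letI := ψ.toRingHom.toAlgebra
  haveI : Algebra.IsIntegral (MvPolynomial (Fin n) K) (p.Fiber D) := ⟨hfinψ.to_isIntegral⟩
  rw [GrothLib.Dim.ringKrullDim_eq_of_isIntegral (R := MvPolynomial (Fin n) K) hinjψ,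
    MvPolynomial.ringKrullDim_of_isNoetherianRing, ringKrullDim_eq_zero_of_field, zero_add, Nat.card_fin]

end GrothLib.FibEq10
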